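import Cfsg.Agent.H36.Amalgam43.Defs
import Cfsg.Agent.H13.LegNine.Main

/-!
# The centralizer of a coordinate element in the `3`-amalgam of `PSp4(3)`
-/

set_option autoImplicit false

namespace H13.Amalgam43

open H36.Amalgam43

theorem nine_eq_top {G : Type*} [Group G] [Finite G] {H T : Subgroup G} {u s z w : G}
    (C : NineCfg H T u s z w) : H = ⊤ := by
  have hTH : T ≤ H := C.norm ▸ Subgroup.le_normalizer
  have hu : u ∈ T := C.T_eq ▸ Subgroup.subset_closure (by simp)
  have hs : s ∈ T := C.T_eq ▸ Subgroup.subset_closure (by simp)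
  have gen_ne : ∀ a b : G, b ^ 3 = 1 → T ≤ Subgroup.zpowers b → a = 1 → False := by
    intro a b hb hle _
    have h1 := Subgroup.card_le_of_le hle
    rw [C.card_T, Nat.card_zpowers] at h1
    have h2 := Nat.le_of_dvd (by norm_num) (orderOf_dvd_of_pow_eq_one hb)
    omega
  have hu1 : u ≠ 1 := fun e => gen_ne u s C.s_cube (by
    rw [C.T_eq, Subgroup.closure_le]
    rintro x (rfl | rfl)
    · rw [e]; exact one_mem _
    · exact Subgroup.mem_zpowers _) e
  have hs1 : s ≠ 1 := fun e => gen_ne s u C.u_cube (by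
    rw [C.T_eq, Subgroup.closure_le]
    rintro x (rfl | rfl)
    · exact Subgroup.mem_zpowers _
    · rw [e]; exact one_mem _) e
  have hzi : z⁻¹ = z := inv_eq_of_mul_eq_one_right C.z_sq
  have hwi : w⁻¹ = w := inv_eq_of_mul_eq_one_right C.w_sq
  have hzs : Commute z s := mul_inv_eq_iff_eq_mul.1 C.z_s
  have hzwu : z * w * u * (z * w)⁻¹ = u := by
    rw [show z * w * u * (z * w)⁻¹ = z * (w * u * w⁻¹) * z⁻¹ by group, C.w_u,
      show z * u⁻¹ * z⁻¹ = (z * u * z⁻¹)⁻¹ by group, C.z_u, inv_inv]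
  have hzz : z * w * (z * w) = 1 := by
    rw [show z * w * (z * w) = z * (w * z) * w by group, ← C.zw,
      show z * (z * w) * w = z * z * (w * w) by group, C.z_sq, C.w_sq, one_mul]
  have hzws : z * w * s * (z * w) = s⁻¹ := by
    have hzwi : (z * w)⁻¹ = z * w := inv_eq_of_mul_eq_one_right hzz
    nth_rewrite 2 [← hzwi]
    rw [show z * w * s * (z * w)⁻¹ = z * (w * s * w⁻¹) * z⁻¹ by group, C.w_s]
    calc z * s⁻¹ * z⁻¹ = (z * s * z⁻¹)⁻¹ := by group
      _ = s⁻¹ := by rw [C.z_s]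
  refine H13.LegNine.eq_top (Y := G) hTH C.norm C.card_T C.card_H.le C.cent hu hs C.u_cube C.s_cube
    hu1 hs1 C.z_mem (H.mul_mem C.z_mem C.w_mem) C.z_sq hzz ?_ hzws C.us ?_ hzs ?_ C.sig
  · nth_rewrite 2 [← hzi]
    exact C.z_u
  · exact ((mul_inv_eq_iff_eq_mul.1 hzwu : Commute (z * w) u)).symm
  · exact (Commute.refl z).mul_right C.zw

end H13.Amalgam43
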